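import Cfsg.Agent.H270.U53.Rep

/-!
# `PSU₅(3)`: the centralizer of an involution which is a commutator of two commuting pairs

Task S3138/T2.
-/

set_option autoImplicit false

namespace Cfsg.Agent.H270.U53

open Subgroup Cfsg Matrix Module Cfsg.Agent.Cit.LongBlock Cfsg.Agent.Cit.LongModel Cfsg.Agent.Cit.LongInst

universe u v

section Four

variable {Γ : Type*} [Group Γ] {F : Type*} [Field F]

/-- the centralizer of `diag(-1,-1,-1,-1,1)` has derived group `E1` -/
theorem E1_eq (R : RepG Γ F (Fin 4) (Fin 1)) (h2 : (2 : F) ≠ 0) (hp : commutator ↥R.E1 = ⊤) :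
    R.E1 = ⁅centralizer ({R.t} : Set Γ), centralizer ({R.t} : Set Γ)⁆ := by
  have hcomm : ∀ {g : Γ}, g ∈ centralizer ({R.t} : Set Γ) → g * R.t = R.t * g := by
    intro g hg
    exact (mem_centralizer_singleton_iff.1 hg)
  apply le_antisymm
  · have h1 : R.E1 ≤ centralizer ({R.t} : Set Γ) := by
      rintro g ⟨P, hP⟩
      exact mem_centralizer_singleton_iff.2 (R.comm_t_of_blocks hP)
    calc R.E1 = ⁅R.E1, R.E1⁆ := by
          rw [← map_subtype_commutator, hp, ← MonoidHom.range_eq_map, range_subtype]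
      _ ≤ _ := commutator_mono h1 h1
  · rw [commutator_le]
    intro a ha b hb
    obtain ⟨P, S, h⟩ := R.blocks_of_comm h2 (hcomm ha)
    obtain ⟨P1, S1, h1⟩ := R.blocks_of_comm h2 (hcomm hb)
    obtain ⟨P', S', h', -, -, e3, e4⟩ := R.blocks_inv h
    obtain ⟨P1', S1', h1', -, -, e5, e6⟩ := R.blocks_inv h1
    refine ⟨P * P1 * P' * P1', ?_⟩
    rw [commutatorElement_def, map_mul, map_mul, map_mul, h, h1, h', h1', fromBlocks_multiply,
      fromBlocks_multiply, fromBlocks_multiply]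
    have hc : S * S1 = S1 * S := by
      ext i j
      rw [Subsingleton.elim i 0, Subsingleton.elim j 0]
      simp [Matrix.mul_apply, mul_comm]
    have h6 : S * S1 * S' * S1' = 1 := by
      rw [hc, Matrix.mul_assoc S1, e3, Matrix.mul_one, e5]
    simp [h6]

end Four

theorem center_bot {E : Type v} [Field E] [Fintype E] (hE : Fintype.card E = 3 ^ 2) :
    center (SU 5 E 3) = ⊥ := by
  rw [eq_bot_iff]
  intro A hA
  obtain ⟨c, h1, h2, rfl⟩ := (Cfsg.Agent.LieClassical.SUBasic.mem_center_SU_iff hE (by norm_num) A).1 hA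
  have hc : c = 1 := by
    have h3 : c ^ 4 = 1 := h2
    calc c = c ^ 5 / c ^ 4 := by rw [pow_succ c 4, h3]; simp
      _ = 1 := by rw [h1, h3, div_one]
  subst hc
  rw [mem_bot]
  apply Subtype.ext; apply Subtype.ext
  ext i j
  change (Matrix.diagonal (fun _ => (1 : E))) i j = (1 : Matrix (Fin 5) (Fin 5) E) i j
  rw [Matrix.diagonal_one]

theorem cent_su {F : Type v} [Field F] [Fintype F] (hF : Fintype.card F = 3 ^ 2) (t : SU 5 F 3)
    (htt : t * t = 1) (ht1 : t ≠ 1)
    (hx : ∃ x₁ y₁ x₂ y₂ : SU 5 F 3, x₁ * y₁ = t * (y₁ * x₁) ∧ x₂ * y₂ = t * (y₂ * x₂) ∧ Commute x₁ t ∧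
      Commute y₁ t ∧ Commute x₂ t ∧ Commute y₂ t ∧ Commute x₁ x₂ ∧ Commute x₁ y₂ ∧ Commute y₁ x₂ ∧
      Commute y₁ y₂) :
    ∃ R : RepG (SU 5 F 3) F (Fin 4) (Fin 1), R.t = t ∧ Model R {cj hF} := by
  have h2 : (2 : F) ≠ 0 := by
    intro h
    have h3 := FiniteField.cast_card_eq_zero F
    rw [hF] at h3
    have h4 : (9 : F) = 0 := by exact_mod_cast h3
    have : (1 : F) = 0 := by linear_combination h4 - 4 * h
    exact one_ne_zero this
  obtain ⟨k, hk⟩ : ∃ k, finrank F (W t.1.1) = k := ⟨_, rfl⟩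
  have hk5 : k ≤ 5 := by
    rw [← hk]
    exact (Submodule.finrank_le _).trans (by simp)
  obtain ⟨R, hRt, hR⟩ := exists_rep hF h2
    (finSumFinEquiv.trans (finCongr (show k + (5 - k) = 5 by omega))) (by norm_num) t htt hk
  have hdet : ((-1 : F)) ^ k = 1 := by
    have h3 := ((hR (R.ρ R.t)).1 ⟨_, rfl⟩).1
    rw [R.t_eq, det_fromBlocks_zero₂₁, det_one, mul_one, det_neg, det_one, mul_one, Fintype.card_fin] at h3
    exact h3
  have hm1 : (-1 : F) ≠ 1 := by
    intro h
    apply h2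
    linear_combination -h
  have hk' : k = 0 ∨ k = 2 ∨ k = 4 := by
    interval_cases k
    · exact Or.inl rfl
    · exact absurd (by simpa using hdet) hm1
    · exact Or.inr (Or.inl rfl)
    · exact absurd (by linear_combination hdet) hm1
    · exact Or.inr (Or.inr rfl)
    · exact absurd (by linear_combination hdet) hm1
  rcases hk' with rfl | rfl | rfl
  · exfalso
    apply ht1
    apply R.inj
    rw [← hRt, R.t_eq, map_one, ← fromBlocks_one]
    congr 1
    exact Subsingleton.elim _ _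
  · exfalso
    obtain ⟨x₁, y₁, x₂, y₂, e1, e2, c1, c2, c3, c4, c5, c6, c7, c8⟩ := hx
    rw [← hRt] at e1 e2 c1 c2 c3 c4
    obtain ⟨A, A', hA⟩ := R.blocks_of_comm h2 c1.eq
    obtain ⟨B, B', hB⟩ := R.blocks_of_comm h2 c2.eq
    obtain ⟨C, C', hC⟩ := R.blocks_of_comm h2 c3.eq
    obtain ⟨D, D', hD⟩ := R.blocks_of_comm h2 c4.eq
    have hdet0 : ∀ {g : SU 5 F 3} {P S}, R.ρ g = fromBlocks P 0 0 S → P.det ≠ 0 := by
      intro g P S h h0
      obtain ⟨P', S', -, h3, -⟩ := R.blocks_inv h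
      have h4 := congrArg det h3
      rw [det_mul, h0, zero_mul, det_one] at h4
      exact zero_ne_one h4
    have hanti : ∀ {x y : SU 5 F 3} {P P' S S'}, R.ρ x = fromBlocks P 0 0 S → R.ρ y = fromBlocks P' 0 0 S' →
        x * y = R.t * (y * x) → P * P' = -(P' * P) := by
      intro x y P P' S S' h3 h4 h5
      have h6 := congrArg R.ρ h5
      rw [map_mul, map_mul, map_mul, h3, h4, R.t_eq, fromBlocks_multiply, fromBlocks_multiply,
        fromBlocks_multiply, fromBlocks_inj] at h6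
      have h7 := h6.1
      simpa using h7
    have hcom : ∀ {x y : SU 5 F 3} {P P' S S'}, R.ρ x = fromBlocks P 0 0 S → R.ρ y = fromBlocks P' 0 0 S' →
        x * y = y * x → P * P' = P' * P := by
      intro x y P P' S S' h3 h4 h5
      have h6 := congrArg R.ρ h5
      rw [map_mul, map_mul, h3, h4, fromBlocks_multiply, fromBlocks_multiply, fromBlocks_inj] at h6
      have h7 := h6.1
      simpa using h7
    exact no_two h2 (hdet0 hA) (hdet0 hC) (hdet0 hB) (hdet0 hD) (hanti hA hB e1) (hanti hC hD e2)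
      (hcom hA hC c5.eq) (hcom hB hC c7.eq)
  · exact ⟨R, hRt, hR⟩

/-- **`U₅(3)`**: the centralizer of an involution with `-1` on a `4`-space -/
theorem cent_u5 {E : Type v} [Field E] [Fintype E] (hE : Fintype.card E = 9) {X : Type u} [Group X]
    [Finite X] (e : X ≃* Cfsg.PSU 5 E 3) (z : X) (hz : z * z = 1) (hz1 : z ≠ 1)
    (hx : ∃ x₁ y₁ x₂ y₂ : X, x₁ * y₁ = z * (y₁ * x₁) ∧ x₂ * y₂ = z * (y₂ * x₂) ∧ Commute x₁ z ∧
      Commute y₁ z ∧ Commute x₂ z ∧ Commute y₂ z ∧ Commute x₁ x₂ ∧ Commute x₁ y₂ ∧ Commute y₁ x₂ ∧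
      Commute y₁ y₂) :
    ∃ K : Subgroup X, z ∈ K ∧
      K = ⁅Subgroup.centralizer ({z} : Set X), Subgroup.centralizer ({z} : Set X)⁆ ∧
      Nonempty (↥K ≃* ↥(Cfsg.SU 4 E 3)) := by
  have hF : Fintype.card E = 3 ^ 2 := by rw [hE]; norm_num
  have hcen := center_bot hF
  have h2 : (2 : E) ≠ 0 := by
    intro h
    have h3 := FiniteField.cast_card_eq_zero E
    rw [hF] at h3
    have h4 : (9 : E) = 0 := by exact_mod_cast h3
    have : (1 : E) = 0 := by linear_combination h4 - 4 * h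
    exact one_ne_zero this
  let π : SU 5 E 3 ≃* Cfsg.PSU 5 E 3 := MulEquiv.ofBijective (QuotientGroup.mk' (center (SU 5 E 3)))
    ⟨by
      rw [← MonoidHom.ker_eq_bot_iff, QuotientGroup.ker_mk', hcen], QuotientGroup.mk'_surjective _⟩
  let f : X ≃* SU 5 E 3 := e.trans π.symm
  obtain ⟨x₁, y₁, x₂, y₂, e1, e2, c1, c2, c3, c4, c5, c6, c7, c8⟩ := hx
  obtain ⟨R, hRt, hR⟩ := cent_su hF (f z) (by rw [← map_mul, hz, map_one])
    (by rwa [ne_eq, EmbeddingLike.map_eq_one_iff])
    ⟨f x₁, f y₁, f x₂, f y₂, by rw [← map_mul, e1, map_mul, map_mul], by rw [← map_mul, e2, map_mul, map_mul],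
      c1.map f, c2.map f, c3.map f, c4.map f, c5.map f, c6.map f, c7.map f, c8.map f⟩
  obtain ⟨ε⟩ := hR.toW.equiv1
  have h32 : ¬ (4 = 3 ∧ 3 = 2) := by omega
  have hperf : commutator (SU 4 E 3) = ⊤ :=
    Cfsg.Agent.LieClassical.HermPerfect.commutator_SU_eq_top hF (by norm_num) h32
  have ε' : ↥R.E1 ≃* ↥(SU 4 E 3) := ε.trans (MulEquiv.subgroupCongr (un_cj hF 4))
  have hp : commutator ↥R.E1 = ⊤ := by
    have h3 : (commutator (SU 4 E 3)).map ε'.symm.toMonoidHom = commutator ↥R.E1 := by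
      rw [commutator_def, commutator_def, map_commutator,
        Subgroup.map_top_of_surjective _ ε'.symm.surjective]
    rw [← h3, hperf, Subgroup.map_top_of_surjective _ ε'.symm.surjective]
  have hE1 := E1_eq R h2 hp
  refine ⟨R.E1.comap f.toMonoidHom, ?_, ?_, ?_⟩
  · rw [mem_comap]
    change f z ∈ R.E1
    rw [← hRt]
    exact R.t_mem
  · apply Subgroup.map_injective (f := f.toMonoidHom) f.injective
    rw [Subgroup.map_comap_eq_self_of_surjective f.surjective, map_commutator]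
    have h3 : (centralizer ({z} : Set X)).map f.toMonoidHom = centralizer ({R.t} : Set (SU 5 E 3)) := by
      ext g
      rw [mem_map, mem_centralizer_singleton_iff, hRt]
      constructor
      · rintro ⟨a, ha, rfl⟩
        rw [mem_centralizer_singleton_iff] at ha
        change f a * f z = f z * f a
        rw [← map_mul, ha, map_mul]
      · intro hg
        refine ⟨f.symm g, ?_, f.apply_symm_apply g⟩
        rw [mem_centralizer_singleton_iff]
        apply f.injective
        rw [map_mul, map_mul, f.apply_symm_apply, hg]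
    rw [h3]
    exact hE1
  · exact ⟨((f.subgroupMap (R.E1.comap f.toMonoidHom)).trans (MulEquiv.subgroupCongr
      (Subgroup.map_comap_eq_self_of_surjective f.surjective R.E1))).trans ε'⟩

end Cfsg.Agent.H270.U53
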