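import Mathlib
import Cfsg.Agent.Cit.LongFinal
import Cfsg.Agent.ClassicalGeometry.HermOrtho

/-!
# Involutions of `SU_n(q)`, `q` odd, as block matrices

An involution `t` of `SU_n(q)` with a `-1`-eigenspace of dimension `k` gives a faithful block representation
`R : RepG (SU n F q) F (Fin k) (Fin m)` with `R.t = t` whose image is the whole group of unitary matrices of
determinant one.
-/

set_option autoImplicit false

namespace Cfsg.Agent.H270.U53

open Subgroup Cfsg Matrix Module Cfsg.Agent.Cit.LongBlock Cfsg.Agent.Cit.LongModel Cfsg.Agent.Cit.LongInst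
  Cfsg.Agent.LieClassical.HermBasic

section Two

variable {F : Type*} [Field F]

/-- there are no two commuting anticommuting pairs of invertible `2 × 2` matrices -/
theorem no_two (h2 : (2 : F) ≠ 0) {A B C D : Matrix (Fin 2) (Fin 2) F} (hA : A.det ≠ 0) (hC : C.det ≠ 0)
    (hB : B.det ≠ 0) (hD : D.det ≠ 0)
    (hAB : A * B = -(B * A)) (hCD : C * D = -(D * C)) (hAC : A * C = C * A) (hBC : B * C = C * B) : False := by
  -- traces
  have htr : ∀ {X Y : Matrix (Fin 2) (Fin 2) F}, Y.det ≠ 0 → X * Y = -(Y * X) → X 1 1 = - X 0 0 := by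
    intro X Y hY h
    have hu : IsUnit Y.det := isUnit_iff_ne_zero.2 hY
    have h1 : Y⁻¹ * (X * Y) = -X := by
      rw [h, Matrix.mul_neg, ← Matrix.mul_assoc, nonsing_inv_mul Y hu, Matrix.one_mul]
    have h3 : trace (Y⁻¹ * (X * Y)) = trace X := by
      rw [trace_mul_comm, Matrix.mul_assoc, mul_nonsing_inv Y hu, Matrix.mul_one]
    rw [h1, trace_neg, trace_fin_two] at h3
    have h4 : (2 : F) * (X 0 0 + X 1 1) = 0 := by linear_combination -h3
    have h5 := (mul_eq_zero.1 h4).resolve_left h2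
    linear_combination h5
  have tA := htr hB hAB
  have hBA : B * A = -(A * B) := by rw [hAB, neg_neg]
  have tB := htr hA hBA
  rw [det_fin_two] at hA hB
  have e00 := congrFun (congrFun hAB 0) 0
  have c00 := congrFun (congrFun hAC 0) 0
  have c01 := congrFun (congrFun hAC 0) 1
  have c10 := congrFun (congrFun hAC 1) 0
  have d00 := congrFun (congrFun hBC 0) 0
  have d01 := congrFun (congrFun hBC 0) 1
  have d10 := congrFun (congrFun hBC 1) 0
  simp only [Matrix.mul_apply, Fin.sum_univ_two, Matrix.neg_apply] at e00 c00 c01 c10 d00 d01 d10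
  rw [tA] at hA c01 c10
  rw [tB] at hB d01 d10
  set a := A 0 0
  set b := A 0 1
  set c := A 1 0
  set e := B 0 0
  set f := B 0 1
  set g := B 1 0
  set q := C 0 1
  set r := C 1 0
  -- `m = C 0 0 - C 1 1`
  obtain ⟨m, hm⟩ : ∃ m, m = C 0 0 - C 1 1 := ⟨_, rfl⟩
  have E1 : q * c = r * b := by linear_combination -c00
  have E2 : b * m = 2 * a * q := by rw [hm]; linear_combination -c01
  have E3 : c * m = 2 * a * r := by rw [hm]; linear_combination c10
  have E4 : q * g = r * f := by linear_combination -d00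
  have E5 : f * m = 2 * e * q := by rw [hm]; linear_combination -d01
  have E6 : g * m = 2 * e * r := by rw [hm]; linear_combination d10
  have E0 : 2 * a * e + b * g + c * f = 0 := by linear_combination e00
  have K1 : f * (a * m + 2 * b * r) = 0 := by
    linear_combination q * E0 + a * E5 - b * E4 - f * E1
  have K2 : g * (a * m + 2 * b * r) = 0 := by
    linear_combination r * E0 + a * E6 + c * E4 - g * E1
  have K3 : e * (2 * (a * m + 2 * b * r)) = 0 := by
    linear_combination m * E0 - b * E6 - c * E5 - 2 * e * E1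
  have K : a * m + 2 * b * r = 0 := by
    by_contra hK
    have hf := (mul_eq_zero.1 K1).resolve_right hK
    have hg := (mul_eq_zero.1 K2).resolve_right hK
    have he := (mul_eq_zero.1 K3).resolve_right (mul_ne_zero h2 hK)
    apply hB
    rw [hf, hg, he]; ring
  have hq : q = 0 := by
    have : q * (2 * (a * -a - b * c)) = 0 := by linear_combination (-b) * K - 2 * b * E1 + a * E2
    exact (mul_eq_zero.1 this).resolve_right (mul_ne_zero h2 hA)
  have hr : r = 0 := by
    have : r * (2 * (a * -a - b * c)) = 0 := by linear_combination (-c) * K + a * E3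
    exact (mul_eq_zero.1 this).resolve_right (mul_ne_zero h2 hA)
  have hm0 : m = 0 := by
    have : m * (2 * (a * -a - b * c)) = 0 := by linear_combination (-2 * a) * K - 2 * b * E3
    exact (mul_eq_zero.1 this).resolve_right (mul_ne_zero h2 hA)
  have hs : C 1 1 = C 0 0 := by rw [hm0] at hm; linear_combination hm
  have hCs : C = C 0 0 • (1 : Matrix (Fin 2) (Fin 2) F) := by
    ext i j
    fin_cases i <;> fin_cases j
    · simp
    · simpa using hq
    · simpa using hr
    · simpa using hs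
  have hc0 : C 0 0 ≠ 0 := by
    intro h
    apply hC
    rw [hCs, h, zero_smul, det_zero]
  rw [hCs] at hCD
  rw [smul_mul_assoc, Matrix.one_mul, mul_smul_comm, Matrix.mul_one] at hCD
  have h5 : (2 * C 0 0) • D = 0 := by
    rw [two_mul, add_smul]
    nth_rewrite 1 [hCD]
    exact neg_add_cancel _
  have h6 : D = 0 := (smul_eq_zero.1 h5).resolve_left (mul_ne_zero h2 hc0)
  exact hD (by rw [h6, det_zero])

end Two

section Herm

variable {F : Type*} [Field F] [Fintype F] {n q : ℕ} (hF : Fintype.card F = q ^ 2)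

/-- unitary matrices -/
def Uu (M : Matrix (Fin n) (Fin n) F) : Prop := Mᵀ * M.map (cj hF) = 1

theorem gu_uu {P : GL (Fin n) F} (hP : P ∈ GU n F q) : Uu hF (P : Matrix (Fin n) (Fin n) F) := by
  have hP' : ∀ u v : Fin n → F, hermForm n F q ((P : Matrix (Fin n) (Fin n) F) *ᵥ u)
      ((P : Matrix (Fin n) (Fin n) F) *ᵥ v) = hermForm n F q u v := hP
  ext i j
  have h := hP' (Pi.single i 1) (Pi.single j 1)
  rw [herm_single_left, mulVec_single_one, mulVec_single_one] at h
  rw [Matrix.mul_apply, Matrix.one_apply]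
  have h1 : hermForm n F q ((P : Matrix (Fin n) (Fin n) F).col i) ((P : Matrix (Fin n) (Fin n) F).col j) =
      ∑ k, (P : Matrix (Fin n) (Fin n) F)ᵀ i k * ((P : Matrix (Fin n) (Fin n) F).map (cj hF)) k j := rfl
  rw [← h1, h, one_mul, Pi.single_apply]
  split_ifs with h2
  · exact one_pow q
  · exact zero_pow_q hF

variable {hF}

theorem Uu.mul {M N : Matrix (Fin n) (Fin n) F} (hM : Uu hF M) (hN : Uu hF N) : Uu hF (M * N) := by
  unfold Uu at *
  rw [transpose_mul, Matrix.map_mul]
  calc Nᵀ * Mᵀ * (M.map (cj hF) * N.map (cj hF)) = Nᵀ * (Mᵀ * M.map (cj hF)) * N.map (cj hF) := by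
        simp only [Matrix.mul_assoc]
    _ = 1 := by rw [hM, Matrix.mul_one, hN]

theorem Uu.inv {M N : Matrix (Fin n) (Fin n) F} (hM : Uu hF M) (h : M * N = 1) : Uu hF N := by
  unfold Uu at *
  have h0 : N * M = 1 := mul_eq_one_comm.1 h
  have h1 : Nᵀ * Mᵀ = 1 := by rw [← transpose_mul, h, transpose_one]
  have h2 : M.map (cj hF) * N.map (cj hF) = 1 := by
    rw [← Matrix.map_mul, h, Matrix.map_one _ (map_zero _) (map_one _)]
  calc Nᵀ * N.map (cj hF) = Nᵀ * (Mᵀ * M.map (cj hF)) * N.map (cj hF) := by rw [hM, Matrix.mul_one]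
    _ = (Nᵀ * Mᵀ) * (M.map (cj hF) * N.map (cj hF)) := by simp only [Matrix.mul_assoc]
    _ = 1 := by rw [h1, h2, Matrix.one_mul]

theorem cond_iff {M : Matrix (Fin n) (Fin n) F} : Cond {cj hF} M ↔ M.det = 1 ∧ Uu hF M :=
  ⟨fun h => ⟨h.1, h.2 _ rfl⟩, fun h => ⟨h.1, fun t ht => by rw [Set.mem_singleton_iff.1 ht]; exact h.2⟩⟩

end Herm

section Rep

variable {F : Type*} [Field F] [Fintype F] {n q k m : ℕ} (hF : Fintype.card F = q ^ 2)

/-- the `-1`-eigenspace -/
def W (t : Matrix (Fin n) (Fin n) F) : Submodule F (Fin n → F) where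
  carrier := {u | t *ᵥ u = -u}
  add_mem' := by
    intro a b ha hb
    change t *ᵥ (a + b) = -(a + b)
    rw [mulVec_add, ha, hb]; abel
  zero_mem' := by
    change t *ᵥ 0 = -0
    rw [mulVec_zero, neg_zero]
  smul_mem' := by
    intro c a ha
    change t *ᵥ (c • a) = -(c • a)
    rw [mulVec_smul, ha, smul_neg]

omit [Fintype F] in
theorem mem_W {t : Matrix (Fin n) (Fin n) F} {u : Fin n → F} : u ∈ W t ↔ t *ᵥ u = -u := Iff.rfl

include hF

theorem W_nondeg (h2 : (2 : F) ≠ 0) {t : Matrix (Fin n) (Fin n) F} (htt : t * t = 1)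
    (ht : ∀ u v, hermForm n F q (t *ᵥ u) (t *ᵥ v) = hermForm n F q u v) (u : Fin n → F) (hu : u ∈ W t)
    (h : ∀ v ∈ W t, hermForm n F q u v = 0) : u = 0 := by
  refine herm_nondeg hF fun v => ?_
  have htv : t *ᵥ (t *ᵥ v) = v := by rw [mulVec_mulVec, htt, one_mulVec]
  have h1 : hermForm n F q u (v - t *ᵥ v) = 0 := by
    refine h _ ?_
    rw [mem_W, mulVec_sub, htv]; abel
  have h3 : hermForm n F q u (v + t *ᵥ v) = 0 := by
    have h4 := ht u (v + t *ᵥ v)
    rw [mem_W.1 hu, mulVec_add, htv, add_comm (t *ᵥ v) v, herm_neg_left] at h4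
    have h5 : (2 : F) * hermForm n F q u (v + t *ᵥ v) = 0 := by linear_combination -h4
    exact (mul_eq_zero.1 h5).resolve_left h2
  rw [herm_sub_right hF] at h1
  rw [herm_add_right hF] at h3
  have h6 : (2 : F) * hermForm n F q u v = 0 := by linear_combination h1 + h3
  exact (mul_eq_zero.1 h6).resolve_left h2

theorem fix_of_perp (h2 : (2 : F) ≠ 0) {t : Matrix (Fin n) (Fin n) F} (htt : t * t = 1)
    (ht : ∀ u v, hermForm n F q (t *ᵥ u) (t *ᵥ v) = hermForm n F q u v) (u : Fin n → F)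
    (h : ∀ v ∈ W t, hermForm n F q u v = 0) : t *ᵥ u = u := by
  have htu : t *ᵥ (t *ᵥ u) = u := by rw [mulVec_mulVec, htt, one_mulVec]
  have h1 : u - t *ᵥ u = 0 := by
    refine W_nondeg hF h2 htt ht _ ?_ fun w hw => ?_
    · rw [mem_W, mulVec_sub, htu]; abel
    · rw [herm_sub_left, h w hw, zero_sub, neg_eq_zero]
      have h3 := ht u (-w)
      have h4 : t *ᵥ (-w) = w := by rw [mulVec_neg, mem_W.1 hw, neg_neg]
      rw [h4, herm_neg_right hF, h w hw, neg_zero] at h3
      exact h3
  exact (sub_eq_zero.1 h1).symm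

/-- `t² = 1`, the `-1`-eigenspace has dimension `k`: a block representation with `R.t = t` -/
theorem exists_rep (h2 : (2 : F) ≠ 0) (e : Fin k ⊕ Fin m ≃ Fin n) (hn : 3 ≤ n) (t : SU n F q) (htt : t * t = 1)
    (hk : finrank F (W t.1.1) = k) :
    ∃ R : RepG (SU n F q) F (Fin k) (Fin m), R.t = t ∧ Model R {cj hF} := by
  have htt' : t.1.1 * t.1.1 = 1 := congrArg (fun x : SU n F q => x.1.1) htt
  have ht : ∀ u v, hermForm n F q (t.1.1 *ᵥ u) (t.1.1 *ᵥ v) = hermForm n F q u v := t.2
  obtain ⟨P, hP, hPW⟩ := Cfsg.Agent.ClassicalGeometry.HermOrtho.exists_GU_adapted hF e (W t.1.1)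
    (W_nondeg hF h2 htt' ht) hk
  have hPU := gu_uu hF hP
  have hPf : ∀ u v, hermForm n F q ((P : Matrix (Fin n) (Fin n) F) *ᵥ u)
      ((P : Matrix (Fin n) (Fin n) F) *ᵥ v) = hermForm n F q u v := hP
  have hPi : (P : Matrix (Fin n) (Fin n) F) * ((P⁻¹ : GL (Fin n) F) : Matrix (Fin n) (Fin n) F) = 1 := by
    rw [← Units.val_mul, mul_inv_cancel, Units.val_one]
  have hiP : ((P⁻¹ : GL (Fin n) F) : Matrix (Fin n) (Fin n) F) * (P : Matrix (Fin n) (Fin n) F) = 1 := by
    rw [← Units.val_mul, inv_mul_cancel, Units.val_one]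
  have hPiU : Uu hF ((P⁻¹ : GL (Fin n) F) : Matrix (Fin n) (Fin n) F) := hPU.inv hPi
  set Q : Matrix (Fin n) (Fin n) F := (P : Matrix (Fin n) (Fin n) F) with hQ
  set Qi : Matrix (Fin n) (Fin n) F := ((P⁻¹ : GL (Fin n) F) : Matrix (Fin n) (Fin n) F) with hQi
  let φ : SU n F q →* Matrix (Fin k ⊕ Fin m) (Fin k ⊕ Fin m) F :=
    { toFun := fun g => (Qi * g.1.1 * Q).submatrix e e
      map_one' := by
        change (Qi * (1 : Matrix (Fin n) (Fin n) F) * Q).submatrix e e = 1
        rw [Matrix.mul_one, hiP, submatrix_one_equiv]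
      map_mul' := by
        intro g h
        change (Qi * (g.1.1 * h.1.1) * Q).submatrix e e = _
        rw [submatrix_mul_equiv]
        congr 1
        calc Qi * (g.1.1 * h.1.1) * Q = Qi * g.1.1 * 1 * h.1.1 * Q := by
              simp only [Matrix.mul_assoc, Matrix.one_mul]
          _ = _ := by rw [← hPi]; simp only [Matrix.mul_assoc] }
  have hφ : ∀ g : SU n F q, φ g = (Qi * g.1.1 * Q).submatrix e e := fun _ => rfl
  have hback : ∀ (g : SU n F q) (M : Matrix (Fin k ⊕ Fin m) (Fin k ⊕ Fin m) F),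
      φ g = M → g.1.1 = Q * (M.submatrix e.symm e.symm) * Qi := by
    intro g M h
    have h1 : M.submatrix e.symm e.symm = Qi * g.1.1 * Q := by
      rw [← h, hφ]; simp
    rw [h1]
    calc g.1.1 = 1 * g.1.1 * 1 := by rw [Matrix.one_mul, Matrix.mul_one]
      _ = _ := by rw [← hPi]; simp only [Matrix.mul_assoc]
  have hinj : Function.Injective φ := by
    intro g h hgh
    apply Subtype.ext; apply Subtype.ext
    rw [hback g _ rfl, hback h _ rfl, hgh]
  have hcol : ∀ i : Fin n, t.1.1 *ᵥ (Q *ᵥ Pi.single i 1) =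
      (Sum.elim (fun _ => (-1 : F)) (fun _ => 1) (e.symm i)) • (Q *ᵥ Pi.single i 1) := by
    intro i
    obtain ⟨j, rfl⟩ := e.surjective i
    rw [e.symm_apply_apply]
    rcases j with j | j
    · have h1 : Q *ᵥ Pi.single (e (.inl j)) 1 ∈ W t.1.1 := by
        rw [hPW]
        intro i
        rw [Pi.single_apply, if_neg]
        intro h
        exact absurd (e.injective h) (by simp)
      rw [mem_W.1 h1]; simp
    · simp only [Sum.elim_inr, one_smul]
      refine fix_of_perp hF h2 htt' ht _ fun w hw => ?_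
      have h1 : w = Q *ᵥ (Qi *ᵥ w) := by rw [mulVec_mulVec, hPi, one_mulVec]
      have h3 : Q *ᵥ (Qi *ᵥ w) ∈ W t.1.1 := by rw [← h1]; exact hw
      rw [hPW] at h3
      rw [h1, hPf, herm_single_left, h3 j, zero_pow_q hF, mul_zero]
  have ht_eq : φ t = fromBlocks (-1) 0 0 1 := by
    have h1 : Qi * t.1.1 * Q = Matrix.diagonal (fun i => Sum.elim (fun _ => (-1 : F)) (fun _ => 1) (e.symm i)) := by
      ext a b
      have h3 : (Qi * t.1.1 * Q) *ᵥ Pi.single b 1 =
          (Sum.elim (fun _ => (-1 : F)) (fun _ => 1) (e.symm b)) • (Pi.single b 1 : Fin n → F) := by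
        rw [← mulVec_mulVec, ← mulVec_mulVec, hcol, mulVec_smul, mulVec_mulVec, hiP, one_mulVec]
      have h4 := congrFun h3 a
      rw [mulVec_single_one] at h4
      have h5 : (Qi * t.1.1 * Q) a b = (Qi * t.1.1 * Q).col b a := rfl
      rw [h5, h4, Matrix.diagonal_apply, Pi.smul_apply, Pi.single_apply, smul_eq_mul]
      split_ifs with h6
      · rw [h6, mul_one]
      · rw [mul_zero]
    rw [hφ, h1]
    ext a b
    rw [submatrix_apply, Matrix.diagonal_apply]
    rcases a with a | a <;> rcases b with b | b <;>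
      simp [Matrix.one_apply, fromBlocks_apply₁₁, fromBlocks_apply₁₂, fromBlocks_apply₂₁, fromBlocks_apply₂₂]
    by_cases h : a = b <;> simp [h]
  refine ⟨⟨φ, hinj, ?_, t, ht_eq⟩, rfl, ?_⟩
  · intro g hg
    obtain ⟨c, hc⟩ := su_cen hF hn g hg
    refine ⟨c, ?_⟩
    rw [hφ, hc, mul_smul_comm, Matrix.mul_one, smul_mul_assoc, hiP]
    ext a b
    simp [Matrix.one_apply, Matrix.submatrix_apply]
  · intro M
    change (∃ g, φ g = M) ↔ _
    have h0 : Cond {cj hF} (M.submatrix e.symm e.symm) ↔ Cond {cj hF} M := cond_reindex e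
    rw [← h0, cond_iff]
    constructor
    · rintro ⟨g, rfl⟩
      have h1 : (φ g).submatrix e.symm e.symm = Qi * g.1.1 * Q := by rw [hφ]; simp
      rw [h1]
      refine ⟨?_, (hPiU.mul ((cond_iff.1 ((su_cond hF g.1).1 g.2)).2)).mul hPU⟩
      rw [det_mul, det_mul, g.1.2, mul_one, ← det_mul, hiP, det_one]
    · rintro ⟨h1, h3⟩
      have h4 : (Q * (M.submatrix e.symm e.symm) * Qi).det = 1 := by
        rw [det_mul, det_mul, h1, mul_one, ← det_mul, hPi, det_one]
      refine ⟨⟨⟨Q * (M.submatrix e.symm e.symm) * Qi, h4⟩, ?_⟩, ?_⟩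
      · exact (su_cond hF _).2 (cond_iff.2 ⟨h4, (hPU.mul h3).mul hPiU⟩)
      · rw [hφ]
        change (Qi * (Q * (M.submatrix e.symm e.symm) * Qi) * Q).submatrix e e = M
        have h5 : Qi * (Q * (M.submatrix e.symm e.symm) * Qi) * Q = M.submatrix e.symm e.symm := by
          calc Qi * (Q * (M.submatrix e.symm e.symm) * Qi) * Q =
                (Qi * Q) * (M.submatrix e.symm e.symm) * (Qi * Q) := by simp only [Matrix.mul_assoc]
            _ = _ := by rw [hiP, Matrix.one_mul, Matrix.mul_one]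
        rw [h5]
        simp

end Rep

end Cfsg.Agent.H270.U53
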